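import Mathlib
import Groth.Prelude.Def_RegImm
import Groth.Prelude.Def_Mor2

/-!
# A regular closed immersion into an open subscheme is a regular immersion
-/

set_option autoImplicit false
universe u
open CategoryTheory AlgebraicGeometry

namespace RegImmOpenLib

variable {Z X : Scheme.{u}}

theorem isClosedImmersion_restrict {P : Scheme.{u}} (g : Z ⟶ P) (j : P ⟶ X) [IsOpenImmersion j]
    [IsClosedImmersion g] (f : Z ⟶ X) (e : g ≫ j = f) (W : P.Opens) :
    IsClosedImmersion (f ∣_ (j ''ᵁ W)) := by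
  have h : f ⁻¹ᵁ (j ''ᵁ W) = g ⁻¹ᵁ W := by
    rw [← e, Scheme.Hom.comp_preimage, Scheme.Hom.preimage_image_eq]
  have e' : f ∣_ (j ''ᵁ W) = (Z.isoOfEq h).hom ≫ (g ∣_ W) ≫ (j.isoImage W).hom := by
    rw [← cancel_mono (j ''ᵁ W).ι, morphismRestrict_ι, Category.assoc, Category.assoc,
      Scheme.Hom.isoImage_hom_ι, morphismRestrict_ι_assoc, Scheme.isoOfEq_hom_ι_assoc, e]
  rw [e']
  infer_instance

theorem isRegularImmersion_of_liftCoborder (f : Z ⟶ X) [IsImmersion f]
    (h : Mor2.IsRegularClosedImmersion f.liftCoborder) : RegImm.IsRegularImmersion .regular f := by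
  refine ⟨inferInstance, fun z => ?_⟩
  obtain ⟨W, hW, hzW, rs, hrs, hker⟩ := h.2 z
  have hzU : f z ∈ f.coborderRange.ι ''ᵁ W :=
    ⟨f.liftCoborder z, hzW, congrArg (fun φ : Z ⟶ X => φ z) f.liftCoborder_ι⟩
  refine ⟨⟨f.coborderRange.ι ''ᵁ W, hW.image_of_isOpenImmersion _⟩, hzU,
    isClosedImmersion_restrict _ _ f f.liftCoborder_ι W, rs, hrs, Eq.trans ?_ hker⟩
  rw [Scheme.Hom.ker_apply]
  show RingHom.ker (f.app (f.coborderRange.ι ''ᵁ W)).hom = RingHom.ker (f.liftCoborder.app W).hom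
  rw [liftCoborder_app]
  exact (RingHom.ker_comp_of_injective _
    (ConcreteCategory.bijective_of_isIso (Z.presheaf.map (eqToHom (f.liftCoborder_preimage W)).op)).1).symm

end RegImmOpenLib
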